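import Cfsg.Agent.H607.TW.Alg

/-!
# S3694: the type theorem, abelian case (helper607)
-/

set_option autoImplicit false
set_option linter.style.haveILetI false

namespace Cfsg.Agent.H607.TW

open Subgroup Cfsg
open Cfsg.Agent.H924 (IsPrimIdem)
open Cfsg.Agent.H296.TW (mt_mul mt_one mt_mul_inv mt_inv_mul not_comm)

universe u

variable {G : Type u} [Group G] {N A X : Subgroup G} {r : ℕ} {F : Type} [Field F] {n : ℕ} {S : Type} [Group S]
  {ι : S →* Matrix.GeneralLinearGroup (Fin n) F} {π : S →* G}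

/-- The complete system of primitive idempotents of a commutative semisimple subalgebra. -/
theorem exists_idems' {C : Subalgebra F (Matrix (Fin n) (Fin n) F)} (hs : IsSemisimpleRing ↥C)
    (hcomm : ∀ x ∈ C, ∀ y ∈ C, x * y = y * x) :
    ∃ (t : ℕ) (e : Fin t → Matrix (Fin n) (Fin n) F), (∀ i, IsPrimIdem C (e i)) ∧ Function.Injective e ∧
      (∑ i, e i = 1) ∧ (∀ e', IsPrimIdem C e' → ∃ i, e i = e') := by
  classical
  letI : CommRing C := { (inferInstance : Ring C) with mul_comm := fun a b => Subtype.ext (hcomm _ a.2 _ b.2) }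
  haveI : IsReduced C := inferInstance
  haveI : IsArtinianRing C := by
    haveI : Module.Finite F C := inferInstance
    exact IsArtinianRing.of_finite F C
  haveI : Finite (MaximalSpectrum C) := inferInstance
  haveI : Fintype (MaximalSpectrum C) := Fintype.ofFinite _
  let φ := IsArtinianRing.equivPi C
  let m := Fintype.card (MaximalSpectrum C)
  let k : MaximalSpectrum C ≃ Fin m := Fintype.equivFin _
  let e0 : MaximalSpectrum C → C := fun I => φ.symm (Pi.single I 1)
  have hφ : ∀ I, φ (e0 I) = Pi.single I 1 := fun I => by simp [e0]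
  have hne : ∀ I, e0 I ≠ 0 := by
    intro I h0
    have h1 := hφ I
    rw [h0, map_zero] at h1
    have h2 := congrFun h1 I
    rw [Pi.single_eq_same] at h2
    haveI := I.isMaximal
    exact zero_ne_one h2
  have hidem : ∀ I, e0 I * e0 I = e0 I := by
    intro I
    apply φ.injective
    rw [map_mul, hφ, ← Pi.single_mul, one_mul]
  have hprim : ∀ I, ∀ c : C, e0 I * c = 0 ∨ ∃ c' : C, e0 I * c * c' = e0 I := by
    intro I c
    haveI := I.isMaximal
    by_cases h0 : φ c I = 0
    · left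
      apply φ.injective
      rw [map_mul, hφ, map_zero]
      ext J
      rcases eq_or_ne J I with rfl | hJ
      · simp [h0]
      · simp [Pi.single_eq_of_ne hJ]
    · right
      letI := Ideal.Quotient.field I.asIdeal
      refine ⟨φ.symm (Pi.single I ((φ c I)⁻¹)), ?_⟩
      apply φ.injective
      rw [map_mul, map_mul, hφ, AlgEquiv.apply_symm_apply]
      ext J
      rcases eq_or_ne J I with rfl | hJ
      · simp only [Pi.mul_apply, Pi.single_eq_same, one_mul]
        exact mul_inv_cancel₀ h0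
      · simp [Pi.single_eq_of_ne hJ]
  have hsum : ∑ I, e0 I = 1 := by
    apply φ.injective
    rw [map_sum, map_one]
    simp_rw [hφ]
    exact Finset.univ_sum_single (1 : ∀ I : MaximalSpectrum C, C ⧸ I.asIdeal)
  have hP : ∀ I, IsPrimIdem C (e0 I : Matrix (Fin n) (Fin n) F) := by
    intro I
    refine ⟨(e0 I).2, fun h => hne I (Subtype.ext h), ?_, ?_⟩
    · have := congrArg Subtype.val (hidem I)
      simpa using this
    · intro c hc
      rcases hprim I ⟨c, hc⟩ with h | ⟨c', h⟩
      · left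
        have := congrArg Subtype.val h
        simpa using this
      · right
        refine ⟨c', c'.2, ?_⟩
        have := congrArg Subtype.val h
        simpa using this
  have hsum' : (∑ i : Fin m, (e0 (k.symm i) : Matrix (Fin n) (Fin n) F)) = 1 := by
    have h1 : (∑ i : Fin m, e0 (k.symm i)) = 1 := by
      rw [← hsum]
      exact Equiv.sum_comp k.symm e0
    have h2 := congrArg C.val h1
    rw [map_sum, map_one] at h2
    exact h2
  refine ⟨m, fun i => (e0 (k.symm i) : Matrix (Fin n) (Fin n) F), fun i => hP _, ?_, hsum', ?_⟩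
  · intro i j hij
    have h1 : e0 (k.symm i) = e0 (k.symm j) := Subtype.ext hij
    have h2 : (Pi.single (k.symm i) 1 : ∀ I : MaximalSpectrum C, C ⧸ I.asIdeal) = Pi.single (k.symm j) 1 := by
      rw [← hφ, ← hφ, h1]
    by_contra hne'
    have h3 : k.symm i ≠ k.symm j := fun h => hne' (k.symm.injective h)
    have h4 := congrFun h2 (k.symm i)
    rw [Pi.single_eq_same, Pi.single_eq_of_ne h3] at h4
    haveI := (k.symm i).isMaximal
    exact one_ne_zero h4
  · intro e' he'
    by_contra hcon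
    push Not at hcon
    have h1 : ∀ i : Fin m, (e0 (k.symm i) : Matrix (Fin n) (Fin n) F) * e' = 0 := by
      intro i
      by_contra h2
      exact hcon i (IsPrimIdem.eq_of_mul_ne_zero hcomm (hP (k.symm i)) he' h2)
    apply he'.ne_zero
    calc e' = (∑ i : Fin m, (e0 (k.symm i) : Matrix (Fin n) (Fin n) F)) * e' := by rw [hsum', one_mul]
      _ = ∑ i : Fin m, (e0 (k.symm i) : Matrix (Fin n) (Fin n) F) * e' := Finset.sum_mul _ _ _
      _ = 0 := Finset.sum_eq_zero fun i _ => h1 i

/-- The algebra generated by commuting matrices is commutative. -/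
theorem adjoin_comm {s : Set (Matrix (Fin n) (Fin n) F)} (h : ∀ x ∈ s, ∀ y ∈ s, x * y = y * x) :
    ∀ x ∈ Algebra.adjoin F s, ∀ y ∈ Algebra.adjoin F s, x * y = y * x := by
  intro x hx y hy
  have h1 := (Algebra.isMulCommutative_adjoin F h).is_comm.comm (⟨x, hx⟩ : ↥(Algebra.adjoin F s)) ⟨y, hy⟩
  exact congrArg Subtype.val h1

/-- The elements of `S` permuting a system of matrices. -/
theorem mem_A_of_perm [Finite G] [Finite F] (h : Loc N A r) (hM : Model N ι π) {t : ℕ} {e : Fin t → Matrix (Fin n) (Fin n) F}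
    (hinj : Function.Injective e)
    (hperm : ∀ a ∈ A, ∀ τ, Ind ι π a τ → ∀ i, ∃ j, τ (e i) = e j)
    (hX : ∃ s₀ : S, π s₀ ≠ 1 ∧ ∀ i, mt ι s₀ * e i = e i * mt ι s₀)
    (hns : ∃ i, ∀ c : F, e i ≠ c • (1 : Matrix (Fin n) (Fin n) F))
    (s : S) (hs : ∀ i, ∃ j, mt ι s * e i = e j * mt ι s) : π s ∈ A := by
  have hfin := hM.finite_S
  let P : S → Prop := fun s => ∀ i, ∃ j, mt ι s * e i = e j * mt ι s
  have hP1 : P 1 := fun i => ⟨i, by rw [mt_one, one_mul, mul_one]⟩
  have hPm : ∀ s s', P s → P s' → P (s * s') := by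
    intro s s' h1 h2 i
    obtain ⟨j, hj⟩ := h2 i
    obtain ⟨k, hk⟩ := h1 j
    refine ⟨k, ?_⟩
    rw [mt_mul, mul_assoc, hj, ← mul_assoc, hk, mul_assoc]
  have hPi : ∀ s, P s → P s⁻¹ := by
    intro s hs
    have h1 : ∀ k : ℕ, P (s ^ k) := by
      intro k
      induction k with
      | zero => rw [pow_zero]; exact hP1
      | succ k ih => rw [pow_succ]; exact hPm _ _ ih hs
    have h2 : s⁻¹ = s ^ (orderOf s - 1) := by
      rw [inv_eq_iff_mul_eq_one, ← pow_succ', Nat.sub_add_cancel (orderOf_pos s), pow_orderOf_eq_one]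
    rw [h2]
    exact h1 _
  let H : Subgroup S := { carrier := {s | P s}, one_mem' := hP1, mul_mem' := fun h1 h2 => hPm _ _ h1 h2, inv_mem' := fun h1 => hPi _ h1 }
  have hH : ∀ s, s ∈ H ↔ P s := fun s => Iff.rfl
  -- `s * e i = e j * s` also in the form `e i * s = s * e j`
  have hPl : ∀ s, P s → ∀ i, ∃ j, e i * mt ι s = mt ι s * e j := by
    intro s hs i
    obtain ⟨j, hj⟩ := hPi s hs i
    refine ⟨j, ?_⟩
    calc e i * mt ι s = mt ι s * (mt ι s⁻¹ * e i) * mt ι s := by rw [← mul_assoc, mt_mul_inv, one_mul]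
      _ = mt ι s * e j * (mt ι s⁻¹ * mt ι s) := by rw [hj]; simp only [mul_assoc]
      _ = mt ι s * e j := by rw [mt_inv_mul, mul_one]
  -- the lifts permute the `e i`
  have hbij : ∀ a ∈ A, ∀ τ, Ind ι π a τ → ∀ j, ∃ i, τ (e i) = e j := by
    intro a ha τ hτ j
    choose f hf using hperm a ha τ hτ
    have hfi : Function.Injective f := by
      intro i i' h1
      apply hinj
      apply τ.injective
      rw [hf, hf, h1]
    obtain ⟨i, rfl⟩ := Finite.surjective_of_injective hfi j
    exact ⟨i, hf i⟩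
  have hnorm : A ≤ normalizer ((H.map π : Subgroup G) : Set G) := by
    apply le_normalizer_of_conj
    rintro a ha _ ⟨s, hs, rfl⟩
    obtain ⟨τ, hτ⟩ := H748.TW.exists_lift hM a
    have hb := hbij a ha τ hτ
    have hp := hperm a ha τ hτ
    rcases hτ with ⟨m, h1⟩ | ⟨m, h1⟩
    · obtain ⟨s', e1, f1⟩ := h1 s
      refine ⟨s', ?_, f1⟩
      intro j
      obtain ⟨i, hi⟩ := hb j
      obtain ⟨k, hk⟩ := hs i
      obtain ⟨l, hl⟩ := hp k
      refine ⟨l, ?_⟩
      rw [e1, ← hi, ← m, hk, m, hl]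
    · obtain ⟨s', e1, f1⟩ := h1 s
      refine ⟨s'⁻¹, ?_, by rw [map_inv]; exact f1⟩
      apply hPi
      intro j
      obtain ⟨i, hi⟩ := hb j
      obtain ⟨k, hk⟩ := hPl s hs i
      obtain ⟨l, hl⟩ := hp k
      refine ⟨l, ?_⟩
      rw [e1, ← hi, ← m, hk, m, hl]
  have hle : H.map π ≤ N := by
    rintro _ ⟨s, -, rfl⟩
    exact hM.mem s
  have hne : H.map π ≠ N := by
    intro heq
    -- `H = ⊤`
    have hall : ∀ s, P s := by
      intro s
      have h1 := hM.mem s
      rw [← heq] at h1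
      obtain ⟨t', ht, hts⟩ := h1
      obtain ⟨c, hc⟩ := hM.smul_of_eq hts.symm
      intro i
      obtain ⟨j, hj⟩ := ht i
      exact ⟨j, by rw [hc, smul_mul_assoc, hj, mul_smul_comm]⟩
    let Q : S → Prop := fun s => ∀ i, mt ι s * e i = e i * mt ι s
    have hQi : ∀ s, Q s → Q s⁻¹ := by
      intro s hs i
      calc mt ι s⁻¹ * e i = mt ι s⁻¹ * (e i * mt ι s) * mt ι s⁻¹ := by
            rw [mul_assoc, mul_assoc, mt_mul_inv, mul_one]
        _ = e i * mt ι s⁻¹ := by rw [← hs i, ← mul_assoc, mt_inv_mul, one_mul]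
    let K : Subgroup S :=
      { carrier := {s | Q s}
        one_mem' := fun i => by rw [mt_one, one_mul, mul_one]
        mul_mem' := fun {a b} ha hb i => by
          rw [mt_mul, mul_assoc, hb i, ← mul_assoc, ha i, mul_assoc]
        inv_mem' := fun {a} ha => hQi a ha }
    have hKn : K.Normal := by
      refine ⟨fun k hk g => ?_⟩
      intro j
      obtain ⟨i, hi⟩ := hPl g (hall g) j
      -- e j * g = g * e i
      have hi' : mt ι g⁻¹ * e j = e i * mt ι g⁻¹ := by
        calc mt ι g⁻¹ * e j = mt ι g⁻¹ * (e j * mt ι g) * mt ι g⁻¹ := by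
              rw [mul_assoc, mul_assoc, mt_mul_inv, mul_one]
          _ = e i * mt ι g⁻¹ := by rw [hi, ← mul_assoc, mt_inv_mul, one_mul]
      rw [mt_mul, mt_mul]
      calc mt ι g * mt ι k * mt ι g⁻¹ * e j = mt ι g * mt ι k * (mt ι g⁻¹ * e j) := by simp only [mul_assoc]
        _ = mt ι g * (mt ι k * e i) * mt ι g⁻¹ := by rw [hi']; simp only [mul_assoc]
        _ = (mt ι g * e i) * mt ι k * mt ι g⁻¹ := by rw [hk i]; simp only [mul_assoc]
        _ = e j * (mt ι g * mt ι k * mt ι g⁻¹) := by rw [← hi]; simp only [mul_assoc]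
    have hKN : K.map π = N := by
      have hs := h.simple
      have hn' : ((K.map π).subgroupOf N).Normal := by
        have h3 : N ≤ normalizer ((K.map π : Subgroup G) : Set G) := by
          apply le_normalizer_of_conj
          rintro g hg _ ⟨k, hk, rfl⟩
          obtain ⟨g', rfl⟩ := hM.exists_pre hg
          exact ⟨g' * k * g'⁻¹, hKn.conj_mem k hk g', by simp⟩
        exact normal_subgroupOf_of_le_normalizer h3
      have hKle : K.map π ≤ N := by
        rintro _ ⟨s, -, rfl⟩
        exact hM.mem s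
      rcases hs.eq_bot_or_eq_top_of_normal _ hn' with h4 | h4
      · exfalso
        obtain ⟨s₀, hs₀, hs₀'⟩ := hX
        rw [subgroupOf_eq_bot, disjoint_iff, inf_eq_left.2 hKle, eq_bot_iff] at h4
        exact hs₀ (mem_bot.mp (h4 ⟨s₀, hs₀', rfl⟩))
      · rw [subgroupOf_eq_top] at h4
        exact le_antisymm hKle h4
    obtain ⟨i, hi⟩ := hns
    have h5 : ∀ s, e i * mt ι s = mt ι s * e i := by
      intro s
      have h1 := hM.mem s
      rw [← hKN] at h1
      obtain ⟨t', ht, hts⟩ := h1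
      obtain ⟨c, hc⟩ := hM.smul_of_eq hts.symm
      rw [hc, smul_mul_assoc, mul_smul_comm, ht i]
    obtain ⟨c, hc⟩ := hM.scalar_of_comm h5
    exact hi c hc
  exact h.le_of_norm' hle hne hnorm ⟨s, hs, rfl⟩

/-- **The type theorem, abelian case.** -/
theorem type_abelian [Finite G] [Finite F] (h : Loc N A r) (hM : Model N ι π) (hS : SemiAx ι π A) (hX : MinX N A X r)
    (hab : ∀ s t : S, π s ∈ X → π t ∈ X → s * t = t * s) :
    (∃ (t : ℕ) (e : Fin t → Matrix (Fin n) (Fin n) F), Frame ι π A e) ∨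
      ∀ b ∈ Algebra.adjoin F (mt ι '' {s | π s ∈ X}), b ≠ 0 → ∃ c ∈ Algebra.adjoin F (mt ι '' {s | π s ∈ X}), b * c = 1 := by
  set B := Algebra.adjoin F (mt ι '' {s | π s ∈ X}) with hB
  have hInv : Inv ι π A B := Inv.adjoin hX.norm
  have hcomm : ∀ x ∈ B, ∀ y ∈ B, x * y = y * x := by
    apply adjoin_comm
    rintro _ ⟨s, hs, rfl⟩ _ ⟨t, ht, rfl⟩
    rw [← mt_mul, ← mt_mul, hab s t hs ht]
  obtain ⟨t, e, he, hinj, hsum, hall⟩ := exists_idems' (hS B hInv) hcomm
  have h10 : (1 : Matrix (Fin n) (Fin n) F) ≠ 0 := by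
    intro h1
    have h2 := congrFun (congrFun h1 ⟨0, hM.pos⟩) ⟨0, hM.pos⟩
    rw [Matrix.one_apply_eq, Matrix.zero_apply] at h2
    exact one_ne_zero h2
  have horth : ∀ i j, i ≠ j → e i * e j = 0 := by
    intro i j hij
    by_contra h1
    exact hij (hinj (IsPrimIdem.eq_of_mul_ne_zero hcomm (he i) (he j) h1))
  have hperm : ∀ a ∈ A, ∀ τ, Ind ι π a τ → ∀ i, ∃ j, τ (e i) = e j := by
    intro a ha τ hτ i
    have h1 : IsPrimIdem B (τ (e i)) := by
      refine ⟨hInv a ha τ hτ _ (he i).mem, ?_, ?_, ?_⟩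
      · intro h1
        apply (he i).ne_zero
        apply τ.injective
        rw [h1, map_zero]
      · rcases hτ with ⟨m, -⟩ | ⟨m, -⟩ <;> rw [← m, (he i).idem]
      · intro c hc
        obtain ⟨c₀, hc₀, rfl⟩ := hInv.surj ha hτ hc
        have h2 : ∀ x ∈ B, ∀ y ∈ B, τ x * τ y = τ (x * y) := by
          intro x hx y hy
          rcases hτ with ⟨m, -⟩ | ⟨m, -⟩
          · rw [m]
          · rw [← m, hcomm x hx y hy]
        rcases (he i).prim c₀ hc₀ with h3 | ⟨c', hc', h3⟩
        · left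
          rw [h2 _ (he i).mem _ hc₀, h3, map_zero]
        · right
          refine ⟨τ c', hInv a ha τ hτ _ hc', ?_⟩
          rw [h2 _ (he i).mem _ hc₀, h2 _ (mul_mem (he i).mem hc₀) _ hc', h3]
    obtain ⟨j, hj⟩ := hall _ h1
    exact ⟨j, hj.symm⟩
  rcases Nat.lt_or_ge t 2 with ht | ht
  · right
    interval_cases t
    · rw [Fin.sum_univ_zero] at hsum
      exact absurd hsum.symm h10
    · rw [Fin.sum_univ_one] at hsum
      intro b hb hb0
      rcases (he 0).prim b hb with h1 | ⟨c, hc, h1⟩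
      · rw [hsum, one_mul] at h1
        exact absurd h1 hb0
      · rw [hsum, one_mul] at h1
        exact ⟨c, hc, h1⟩
  · left
    refine ⟨t, e, ht, fun i => (he i).idem, fun i => (he i).ne_zero, horth, hsum, hperm, ?_⟩
    have hne : ∃ s₀ : S, π s₀ ≠ 1 ∧ ∀ i, mt ι s₀ * e i = e i * mt ι s₀ := by
      obtain ⟨x, hx⟩ := (Subgroup.ne_bot_iff_exists_ne_one.mp hX.ne)
      obtain ⟨s₀, hs₀⟩ := hM.exists_pre (hX.le x.2).2
      refine ⟨s₀, ?_, ?_⟩
      · rw [hs₀]
        exact fun h1 => hx (Subtype.ext h1)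
      · intro i
        refine hcomm _ ?_ _ (he i).mem
        apply Algebra.subset_adjoin
        refine ⟨s₀, ?_, rfl⟩
        rw [Set.mem_ofPred_eq, hs₀]
        exact x.2
    have hns : ∃ i, ∀ c : F, e i ≠ c • (1 : Matrix (Fin n) (Fin n) F) := by
      refine ⟨⟨0, by omega⟩, fun c hc => ?_⟩
      have h1 := horth ⟨0, by omega⟩ ⟨1, by omega⟩ (by simp)
      rw [hc, smul_mul_assoc, one_mul] at h1
      rcases smul_eq_zero.mp h1 with h2 | h2
      · rw [h2, zero_smul] at hc
        exact (he _).ne_zero hc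
      · exact (he _).ne_zero h2
    exact fun s hs => mem_A_of_perm h hM hinj hperm hne hns s hs

end Cfsg.Agent.H607.TW
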